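import Groth.Agent.Lib.NormalExt.Basic
import Groth.Prelude.Def_Pi1
import Mathlib.AlgebraicGeometry.Normalization
import Mathlib.AlgebraicGeometry.Morphisms.Finite
import Mathlib.AlgebraicGeometry.Morphisms.Etale
import Mathlib.RingTheory.DedekindDomain.IntegralClosure
import Mathlib.RingTheory.Unramified.Field
import Mathlib.RingTheory.Flat.TorsionFree

/-!
# Normalization of a normal base in an integral normal scheme étale over it
-/

set_option autoImplicit false
set_option linter.all false
set_option backward.isDefEq.respectTransparency false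

universe u

open CategoryTheory CategoryTheory.Limits AlgebraicGeometry TopologicalSpace

noncomputable section

namespace GrothLib.NeronModel13

/-- A subring of a field, integrally closed in the field, is an integrally closed domain. -/
theorem isIntegrallyClosed_of_field {B K : Type u} [CommRing B] [Field K] [Algebra B K]
    (hinj : Function.Injective (algebraMap B K))
    (h : ∀ y : K, IsIntegral B y → y ∈ Set.range (algebraMap B K)) :
    IsDomain B ∧ IsIntegrallyClosed B := by
  haveI : IsDomain B := Function.Injective.isDomain (algebraMap B K) hinj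
  refine ⟨inferInstance, (isIntegrallyClosed_iff (FractionRing B)).2 fun {x} hx => ?_⟩
  let g : FractionRing B →+* K := IsFractionRing.lift hinj
  let g' : FractionRing B →ₐ[B] K := { g with commutes' := fun r => IsFractionRing.lift_algebraMap hinj r }
  obtain ⟨b, hb⟩ := h _ (hx.map g')
  exact ⟨b, g.injective ((IsFractionRing.lift_algebraMap hinj b).trans hb)⟩

variable {C : Scheme.{u}} [IsIntegral C]

/-- Functions on a nonempty open of an integral normal scheme are integrally closed in the function
field. -/
theorem exists_germToFunctionField_eq (hC : ∀ x : C, IsIntegrallyClosed (C.presheaf.stalk x))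
    (P : C.Opens) [Nonempty P] (y : C.functionField)
    (hy : (C.germToFunctionField P).hom.IsIntegralElem y) :
    y ∈ Set.range (C.germToFunctionField P) := by
  have hloc : ∀ x : P, ∃ (V : C.Opens) (hV : V ≤ P) (a : Γ(C, V)) (_ : Nonempty V),
      x.1 ∈ V ∧ C.germToFunctionField V a = y := by
    intro x
    obtain ⟨V, hVa, hxV, hVP⟩ := exists_isAffineOpen_mem_and_subset x.2
    haveI : Nonempty V := ⟨⟨x.1, hxV⟩⟩
    haveI := functionField_isFractionRing_of_isAffineOpen C V hVa
    haveI := NormalExt.isIntegrallyClosed_Γ hC V hVa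
    obtain ⟨p, hp, hp0⟩ := hy
    have hi : IsIntegral Γ(C, V) y := by
      refine ⟨p.map (C.presheaf.map (homOfLE hVP).op).hom, hp.map _, ?_⟩
      rw [Polynomial.eval₂_map]
      have e : (algebraMap Γ(C, V) C.functionField).comp (C.presheaf.map (homOfLE hVP).op).hom =
          (C.germToFunctionField P).hom := by
        ext t
        exact C.presheaf.germ_res_apply _ _ _ t
      rw [e, hp0]
    obtain ⟨a, ha⟩ := (IsIntegrallyClosed.isIntegral_iff (K := C.functionField)).1 hi
    exact ⟨V, hVP, a, inferInstance, hxV, ha⟩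
  choose V hVP a hne hxV ha using hloc
  have hcompat : TopCat.Presheaf.IsCompatible C.sheaf.1 V a := by
    intro x x'
    haveI := hne x
    haveI := hne x'
    haveI : Nonempty ((V x ⊓ V x' : C.Opens) : Scheme.{u}) := by
      obtain ⟨z, hz⟩ := nonempty_preirreducible_inter (V x).2 (V x').2 ⟨_, hxV x⟩ ⟨_, hxV x'⟩
      exact ⟨⟨z, hz⟩⟩
    apply C.germToFunctionField_injective (V x ⊓ V x')
    refine (C.presheaf.germ_res_apply _ _ _ (a x)).trans ?_
    refine Eq.trans ?_ (C.presheaf.germ_res_apply _ _ _ (a x')).symm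
    exact (ha x).trans (ha x').symm
  obtain ⟨s, hs, -⟩ := C.sheaf.existsUnique_gluing' V P (fun x => homOfLE (hVP x))
    (fun x hx => Opens.mem_iSup.2 ⟨⟨x, hx⟩, hxV _⟩) a hcompat
  obtain ⟨x₀⟩ := ‹Nonempty P›
  haveI := hne x₀
  refine ⟨s, ?_⟩
  rw [← ha x₀, ← hs x₀]
  exact (C.presheaf.germ_res_apply _ _ _ s).symm

variable {S : Scheme.{u}} (f : C ⟶ S)

section chart

variable (U : S.Opens)

/-- The integral closure of the functions on the base in those of a nonempty open of an integral
normal scheme is an integrally closed domain. -/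
theorem isIntegrallyClosed_closure (hC : ∀ x : C, IsIntegrallyClosed (C.presheaf.stalk x))
    [Nonempty ((f ⁻¹ᵁ U : C.Opens) : Scheme.{u})] :
    letI := (f.app U).hom.toAlgebra
    IsDomain (integralClosure Γ(S, U) Γ(C, f ⁻¹ᵁ U)) ∧
      IsIntegrallyClosed (integralClosure Γ(S, U) Γ(C, f ⁻¹ᵁ U)) := by
  letI := (f.app U).hom.toAlgebra
  let B := integralClosure Γ(S, U) Γ(C, f ⁻¹ᵁ U)
  let θ : B →+* C.functionField := (C.germToFunctionField (f ⁻¹ᵁ U)).hom.comp B.val.toRingHom
  letI : Algebra B C.functionField := θ.toAlgebra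
  refine isIntegrallyClosed_of_field (B := B) (K := C.functionField)
    ((C.germToFunctionField_injective _).comp Subtype.val_injective) fun y hy => ?_
  obtain ⟨p, hp, hp0⟩ := hy
  obtain ⟨a, ha⟩ := exists_germToFunctionField_eq hC (f ⁻¹ᵁ U) y ⟨p.map B.val.toRingHom, hp.map _, by
    rw [Polynomial.eval₂_map]; exact hp0⟩
  have hint : IsIntegral B a := by
    refine ⟨p, hp, C.germToFunctionField_injective (f ⁻¹ᵁ U) ?_⟩
    rw [map_zero]
    refine (Polynomial.hom_eval₂ p _ (C.germToFunctionField (f ⁻¹ᵁ U)).hom a).trans ?_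
    rw [show (C.germToFunctionField (f ⁻¹ᵁ U)).hom a = y from ha]
    exact hp0
  exact ⟨⟨a, isIntegral_trans (R := Γ(S, U)) a hint⟩, ha⟩

/-- Finiteness of that integral closure, for an étale morphism and a normal Noetherian chart. -/
theorem finite_closure [Etale f] (hU : IsAffineOpen U)
    [IsDomain Γ(S, U)] [IsIntegrallyClosed Γ(S, U)] [IsNoetherianRing Γ(S, U)] :
    letI := (f.app U).hom.toAlgebra
    Module.Finite Γ(S, U) (integralClosure Γ(S, U) Γ(C, f ⁻¹ᵁ U)) := by
  letI := (f.app U).hom.toAlgebra
  by_cases hne : Nonempty ((f ⁻¹ᵁ U : C.Opens) : Scheme.{u})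
  swap
  · haveI : Subsingleton Γ(C, f ⁻¹ᵁ U) := by
      have hb : f ⁻¹ᵁ U = ⊥ := Opens.ext (Set.eq_empty_iff_forall_notMem.mpr fun x hx => hne ⟨⟨x, hx⟩⟩)
      rw [hb]; infer_instance
    exact inferInstance
  obtain ⟨x₀⟩ := hne
  haveI : Nonempty ((f ⁻¹ᵁ U : C.Opens) : Scheme.{u}) := ⟨x₀⟩
  obtain ⟨V, hVa, hxV, hVP⟩ := exists_isAffineOpen_mem_and_subset x₀.2
  haveI : Nonempty V := ⟨⟨x₀.1, hxV⟩⟩
  have het : (f.appLE U V hVP).hom.Etale := HasRingHomProperty.appLE @Etale f inferInstance ⟨U, hU⟩ ⟨V, hVa⟩ hVP
  letI aV : Algebra Γ(S, U) Γ(C, V) := (f.appLE U V hVP).hom.toAlgebra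
  letI aK : Algebra Γ(S, U) C.functionField :=
    ((C.germToFunctionField (f ⁻¹ᵁ U)).hom.comp (f.app U).hom).toAlgebra
  haveI : Algebra.Etale Γ(S, U) Γ(C, V) := het
  haveI := functionField_isFractionRing_of_isAffineOpen C V hVa
  haveI : IsScalarTower Γ(S, U) Γ(C, V) C.functionField := IsScalarTower.of_algebraMap_eq fun r => by
    show C.germToFunctionField (f ⁻¹ᵁ U) ((f.app U).hom r) =
      C.germToFunctionField V (C.presheaf.map (homOfLE hVP).op ((f.app U).hom r))
    exact (C.presheaf.germ_res_apply _ _ _ _).symm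
  haveI : Module.Flat Γ(S, U) Γ(C, V) := inferInstance
  have hinjV : Function.Injective (algebraMap Γ(S, U) Γ(C, V)) :=
    (injective_iff_map_eq_zero _).2 fun r hr => by
      by_contra h
      have h1 : r • (1 : Γ(C, V)) = r • (0 : Γ(C, V)) := by
        rw [smul_zero, Algebra.smul_def, mul_one, hr]
      exact one_ne_zero ((Module.Flat.isSMulRegular_of_nonZeroDivisors (mem_nonZeroDivisors_of_ne_zero h)) h1)
  have hinjK : Function.Injective (algebraMap Γ(S, U) C.functionField) := by
    rw [IsScalarTower.algebraMap_eq Γ(S, U) Γ(C, V) C.functionField]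
    exact (IsFractionRing.injective Γ(C, V) C.functionField).comp hinjV
  let L := FractionRing Γ(S, U)
  letI : Algebra L C.functionField := (IsFractionRing.lift (g := algebraMap Γ(S, U) C.functionField) hinjK).toAlgebra
  haveI : IsScalarTower Γ(S, U) L C.functionField := IsScalarTower.of_algebraMap_eq fun r =>
    (IsFractionRing.lift_algebraMap hinjK r).symm
  haveI : Algebra.FormallyUnramified Γ(C, V) C.functionField :=
    Algebra.FormallyUnramified.of_isLocalization (nonZeroDivisors Γ(C, V))
  haveI : Algebra.EssFiniteType Γ(C, V) C.functionField :=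
    Algebra.EssFiniteType.of_isLocalization _ (nonZeroDivisors Γ(C, V))
  haveI : Algebra.FormallyUnramified Γ(S, U) C.functionField :=
    Algebra.FormallyUnramified.comp Γ(S, U) Γ(C, V) C.functionField
  haveI : Algebra.EssFiniteType Γ(S, U) C.functionField :=
    Algebra.EssFiniteType.comp Γ(S, U) Γ(C, V) C.functionField
  haveI : Algebra.FormallyUnramified L C.functionField :=
    Algebra.FormallyUnramified.of_restrictScalars Γ(S, U) L C.functionField
  haveI : Algebra.EssFiniteType L C.functionField :=
    Algebra.EssFiniteType.of_comp Γ(S, U) L C.functionField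
  haveI : Algebra.IsSeparable L C.functionField := Algebra.FormallyUnramified.isSeparable _ _
  haveI : FiniteDimensional L C.functionField := Algebra.FormallyUnramified.finite_of_free L C.functionField
  haveI : Module.Finite Γ(S, U) (integralClosure Γ(S, U) C.functionField) :=
    IsIntegralClosure.finite Γ(S, U) L C.functionField (integralClosure Γ(S, U) C.functionField)
  let ψ : Γ(C, f ⁻¹ᵁ U) →ₐ[Γ(S, U)] C.functionField :=
    { (C.germToFunctionField (f ⁻¹ᵁ U)).hom with commutes' := fun _ => rfl }
  let ψ' : integralClosure Γ(S, U) Γ(C, f ⁻¹ᵁ U) →ₗ[Γ(S, U)] integralClosure Γ(S, U) C.functionField :=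
    (ψ.toLinearMap.comp (integralClosure Γ(S, U) Γ(C, f ⁻¹ᵁ U)).val.toLinearMap).codRestrict
      (Subalgebra.toSubmodule (integralClosure Γ(S, U) C.functionField)) fun a => a.2.map ψ
  exact Module.Finite.of_injective ψ' fun a b h =>
    Subtype.ext (C.germToFunctionField_injective _ (congrArg Subtype.val h))

end chart

variable [QuasiCompact f] [QuasiSeparated f]

/-- The normalization in an integral normal scheme is normal. -/
theorem isNormalScheme_normalization (hC : ∀ x : C, IsIntegrallyClosed (C.presheaf.stalk x)) :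
    Pi1.IsNormalScheme f.normalization := by
  intro z
  obtain ⟨U, hU, hzU, -⟩ := exists_isAffineOpen_mem_and_subset (U := (⊤ : S.Opens))
    (x := f.fromNormalization z) trivial
  let W := f.fromNormalization ⁻¹ᵁ U
  have hW : IsAffineOpen W := hU.preimage _
  letI := (f.app U).hom.toAlgebra
  let ec := (f.normalizationObjIso hU).commRingCatIsoToRingEquiv
  haveI : Nonempty ((f ⁻¹ᵁ U : C.Opens) : Scheme.{u}) := by
    obtain ⟨x, hx⟩ := f.toNormalization.denseRange.exists_mem_open W.2 ⟨z, hzU⟩
    refine ⟨⟨x, ?_⟩⟩
    show f x ∈ U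
    rwa [← f.toNormalization_fromNormalization, Scheme.Hom.comp_apply]
  obtain ⟨hdom, hic⟩ := isIntegrallyClosed_closure f U hC
  haveI : IsDomain Γ(f.normalization, W) := MulEquiv.isDomain _ ec.toMulEquiv
  haveI : IsIntegrallyClosed Γ(f.normalization, W) := IsIntegrallyClosed.of_equiv ec.symm
  letI := TopCat.Presheaf.algebra_section_stalk f.normalization.presheaf (⟨z, hzU⟩ : W)
  haveI := hW.isLocalization_stalk ⟨z, hzU⟩
  let P := (hW.primeIdealOf ⟨z, hzU⟩).asIdeal
  have hle : P.primeCompl ≤ nonZeroDivisors Γ(f.normalization, W) := P.primeCompl_le_nonZeroDivisors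
  haveI : IsDomain (f.normalization.presheaf.stalk z) :=
    IsLocalization.isDomain_of_le_nonZeroDivisors (S := f.normalization.presheaf.stalk z)
      (M := P.primeCompl) hle
  exact ⟨inferInstance, isIntegrallyClosed_of_isLocalization (f.normalization.presheaf.stalk z) P.primeCompl hle⟩

/-- The normalization of a locally Noetherian normal scheme in an integral scheme étale over it is
finite. -/
theorem isFinite_fromNormalization [Etale f]
    (hcov : ∀ s : S, ∃ U : S.Opens, s ∈ U ∧ IsAffineOpen U ∧ IsDomain Γ(S, U) ∧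
      IsIntegrallyClosed Γ(S, U) ∧ IsNoetherianRing Γ(S, U)) :
    IsFinite f.fromNormalization := by
  choose U hsU hU hd hic hn using hcov
  rw [HasAffineProperty.iff_of_iSup_eq_top (P := @IsFinite) (fun s : S => (⟨U s, hU s⟩ : S.affineOpens))
    (top_le_iff.mp fun s _ => Opens.mem_iSup.2 ⟨s, hsU s⟩)]
  intro s
  refine ⟨(hU s).preimage f.fromNormalization, ?_⟩
  haveI := hd s; haveI := hic s; haveI := hn s
  letI := (f.app (U s)).hom.toAlgebra
  haveI := finite_closure f (U s) (hU s)
  have h2 : (f.fromNormalization.app (U s)).hom.Finite := by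
    rw [f.fromNormalization_app (hU s), CommRingCat.hom_comp]
    exact (RingHom.Finite.of_surjective _
      (ConcreteCategory.bijective_of_isIso (f.normalizationObjIso (hU s)).inv).2).comp
      (RingHom.finite_algebraMap.2 inferInstance)
  rw [morphismRestrict_appTop, CommRingCat.hom_comp]
  refine (RingHom.Finite.of_surjective _ ?_).comp ?_
  · exact (ConcreteCategory.bijective_of_isIso
      (f.normalization.presheaf.map (eqToHom (image_morphismRestrict_preimage f.fromNormalization (U s) ⊤)).op)).2
  · have key : ∀ W, W = U s → (f.fromNormalization.app W).hom.Finite := by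
      rintro _ rfl; exact h2
    exact key _ (Scheme.Opens.ι_image_top _)

end GrothLib.NeronModel13
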