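import Groth.Agent.Lib.NeronModel13.Comp
import Groth.Agent.Lib.NeronFin13.Basic
import Groth.Agent.Lib.SGA1Quot21.SigmaFinite
import Groth.Agent.Lib.EtBasicB.OverField

/-!
# The normal finite model of an étale separated scheme over an open of a normal base
-/

set_option autoImplicit false
set_option linter.all false
set_option backward.isDefEq.respectTransparency false

universe u

open CategoryTheory CategoryTheory.Limits AlgebraicGeometry TopologicalSpace

noncomputable section

namespace GrothLib.NeronModel13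

variable {S : Scheme.{u}} [IsLocallyNoetherian S] (hS : Pi1.IsNormalScheme S)

include hS in
theorem exists_normal_chart (s : S) : ∃ U : S.Opens, s ∈ U ∧ IsAffineOpen U ∧ IsDomain Γ(S, U) ∧
    IsIntegrallyClosed Γ(S, U) ∧ IsNoetherianRing Γ(S, U) := by
  haveI := NeronFin13.isReduced_normal hS
  let O : S.Opens := ⟨irreducibleComponent s, NeronFin13.isOpen_component hS _
    (irreducibleComponent_mem_irreducibleComponents s)⟩
  obtain ⟨U, hU, hsU, hUO⟩ := exists_isAffineOpen_mem_and_subset
    (show s ∈ O from mem_irreducibleComponent)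
  haveI : Nonempty (U : Scheme.{u}) := ⟨⟨s, hsU⟩⟩
  haveI : IrreducibleSpace ↥(U : Scheme.{u}) := by
    refine Subtype.irreducibleSpace ⟨⟨s, hsU⟩, ?_⟩
    exact (isIrreducible_irreducibleComponent (x := s)).2.open_subset U.2 hUO
  haveI : IsIntegral (U : Scheme.{u}) := isIntegral_of_irreducibleSpace_of_isReduced _
  have hn : ∀ x : (U : Scheme.{u}), IsIntegrallyClosed ((U : Scheme.{u}).presheaf.stalk x) := fun x =>
    haveI := (hS (U.ι x)).2
    IsIntegrallyClosed.of_equiv (asIso (U.ι.stalkMap x)).commRingCatIsoToRingEquiv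
  haveI : IsAffine (U : Scheme.{u}) := hU
  haveI : Nonempty ((⊤ : (U : Scheme.{u}).Opens) : Scheme.{u}) := ⟨⟨⟨s, hsU⟩, trivial⟩⟩
  haveI := NormalExt.isIntegrallyClosed_Γ hn ⊤ (isAffineOpen_top _)
  let e := U.topIso.commRingCatIsoToRingEquiv
  exact ⟨U, hsU, hU, MulEquiv.isDomain _ e.symm.toMulEquiv, IsIntegrallyClosed.of_equiv e,
    IsLocallyNoetherian.component_noetherian ⟨U, hU⟩⟩

include hS in
/-- A separated quasi-compact étale scheme over a normal Noetherian scheme is an open subscheme of a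
normal scheme finite over it. -/
theorem exists_finite_normal_model [CompactSpace S] {X : Scheme.{u}} (f : X ⟶ S) [Etale f]
    [IsSeparated f] [QuasiCompact f] :
    ∃ (T : Scheme.{u}) (π : T ⟶ S) (j : X ⟶ T), IsFinite π ∧ IsOpenImmersion j ∧ j ≫ π = f ∧
      Pi1.IsNormalScheme T := by
  have hX : Pi1.IsNormalScheme X := NeronFin13.isNormal_smooth hS f
  haveI : IsLocallyNoetherian X := LocallyOfFiniteType.isLocallyNoetherian f
  haveI : CompactSpace X := QuasiCompact.compactSpace_of_compactSpace f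
  haveI : IsNoetherian X := ⟨⟩
  haveI := NeronFin13.isReduced_normal hX
  haveI : Finite ↥(irreducibleComponents X) :=
    (TopologicalSpace.NoetherianSpace.finite_irreducibleComponents (α := X)).to_subtype
  let J := ↥(irreducibleComponents X)
  let O : J → X.Opens := fun C => ⟨C.1, NeronFin13.isOpen_component hX C.1 C.2⟩
  haveI hint : ∀ C : J, IsIntegral (O C : Scheme.{u}) := fun C => by
    haveI : IrreducibleSpace ↥(O C : Scheme.{u}) := Subtype.irreducibleSpace C.2.1
    exact isIntegral_of_irreducibleSpace_of_isReduced _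
  haveI hqc : ∀ C : J, QuasiCompact ((O C).ι ≫ f) := fun C => inferInstance
  have hn : ∀ C : J, ∀ x : (O C : Scheme.{u}), IsIntegrallyClosed ((O C : Scheme.{u}).presheaf.stalk x) :=
    fun C x =>
    haveI := (hX ((O C).ι x)).2
    IsIntegrallyClosed.of_equiv (asIso ((O C).ι.stalkMap x)).commRingCatIsoToRingEquiv
  haveI hft : ∀ C : J, IsFinite ((O C).ι ≫ f).fromNormalization := fun C =>
    isFinite_fromNormalization _ fun s => exists_normal_chart hS s
  let Tc : J → Scheme.{u} := fun C => ((O C).ι ≫ f).normalization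
  let π : ∐ Tc ⟶ S := Sigma.desc fun C => ((O C).ι ≫ f).fromNormalization
  haveI : IsFinite π := SGA1Quot21.isFinite_sigmaDesc _
  haveI hlqf : ∀ C : J, LocallyQuasiFinite ((O C).ι ≫ f) := fun C =>
    EtBasicB.locallyQuasiFinite_of_unramified _
  haveI hoi : ∀ C : J, IsOpenImmersion ((O C).ι ≫ f).toNormalization := fun C => inferInstance
  let j' : ∐ (fun C => (O C : Scheme.{u})) ⟶ ∐ Tc :=
    Sigma.desc fun C => ((O C).ι ≫ f).toNormalization ≫ Sigma.ι Tc C
  haveI : IsOpenImmersion j' := by
    refine isOpenImmersion_sigmaDesc _ _ fun a b hab => ?_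
    have h' : Disjoint (Set.range (Sigma.ι Tc a)) (Set.range (Sigma.ι Tc b)) := by
      simpa [disjoint_iff, Opens.ext_iff] using disjoint_opensRange_sigmaι Tc a b hab
    refine Disjoint.mono ?_ ?_ h'
    · rintro _ ⟨x, rfl⟩; exact ⟨((O a).ι ≫ f).toNormalization x, rfl⟩
    · rintro _ ⟨x, rfl⟩; exact ⟨((O b).ι ≫ f).toNormalization x, rfl⟩
  let p : ∐ (fun C => (O C : Scheme.{u})) ⟶ X := Sigma.desc fun C => (O C).ι
  haveI : IsOpenImmersion p := by
    refine isOpenImmersion_sigmaDesc _ _ fun a b hab => ?_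
    show Disjoint (Set.range (O a).ι) (Set.range (O b).ι)
    rw [Scheme.Opens.range_ι, Scheme.Opens.range_ι, Set.disjoint_left]
    intro x hxa hxb
    exact hab (Subtype.ext (NeronFin13.component_eq hX a.2 b.2 hxa hxb))
  haveI : Surjective p := ⟨fun x => ⟨Sigma.ι (fun C => (O C : Scheme.{u}))
      ⟨_, irreducibleComponent_mem_irreducibleComponents x⟩ ⟨x, mem_irreducibleComponent⟩, by
    rw [← Scheme.Hom.comp_apply, Sigma.ι_desc]; rfl⟩⟩
  haveI : IsIso p := isIso_of_isOpenImmersion_of_opensRange_eq_top p (by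
    ext x; simpa using p.surjective x)
  refine ⟨∐ Tc, π, inv p ≫ j', inferInstance, inferInstance, ?_, fun z => ?_⟩
  · rw [Category.assoc, IsIso.inv_comp_eq]
    refine Sigma.hom_ext _ _ fun C => ?_
    simp [j', π, p, Sigma.ι_desc_assoc]
  · obtain ⟨C, t, ht⟩ := (sigmaOpenCover Tc).exists_eq z
    obtain rfl : Sigma.ι Tc C t = z := ht
    obtain ⟨h1, h2⟩ := isNormalScheme_normalization ((O C).ι ≫ f) (hn C) t
    let e := (asIso ((Sigma.ι Tc C).stalkMap t)).commRingCatIsoToRingEquiv
    exact ⟨MulEquiv.isDomain _ e.toMulEquiv, IsIntegrallyClosed.of_equiv e.symm⟩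

end GrothLib.NeronModel13
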